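import Cfsg.Agent.H105.SzO3

/-!
# Products of two centralizers in orthogonal groups of even characteristic: the case E2 of S2273 (helper316)
-/

set_option autoImplicit false
set_option linter.unusedVariables false

namespace Cfsg.Agent.H316.Sz

open Module QuadraticMap Cfsg.Agent.LieClassical.OrthCore Cfsg.Agent.LieClassical.OrthTrans
open Cfsg.Agent.LieClassical.OrthFinite Cfsg.Agent.H105.Sz Cfsg.Agent.H105.SzO

variable {K V : Type*} [Field K] [AddCommGroup V] [Module K V] {Q : QuadraticForm K V}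

theorem eq_of_sq (h2 : (2 : K) = 0) {x y : K} (h : x ^ 2 = y ^ 2) : x = y := by
  have h1 : (x - y) ^ 2 = 0 := by linear_combination h + (y ^ 2 - x * y) * h2
  exact sub_eq_zero.1 (pow_eq_zero_iff (two_ne_zero)|>.1 h1)

/-- the centraliser of `b` fixes `f` -/
theorem fix_of_comm (hQ : Nondeg Q) (h2 : (2 : K) = 0) {b x : V ≃ₗ[K] V} (hx : x ∈ O Q) {d : K} {f : V}
    (hbQ : ∀ v, polar Q (b v) v = d * Q v + (polar Q v f) ^ 2) (hxb : ∀ v, b (x v) = x (b v)) : x f = f := by
  have h1 : ∀ w, polar Q (x w) f = polar Q (x w) (x f) := by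
    intro w
    apply eq_of_sq h2
    have h3 := hbQ (x w)
    rw [hxb, polar_map hx, hbQ w, mem_O.1 hx] at h3
    rw [polar_map hx]
    linear_combination -h3
  have h3 : x f - f = 0 := by
    apply hQ
    intro v
    have h4 := h1 (x.symm v)
    rw [x.apply_symm_apply] at h4
    rw [polar_comm, polar_sub_right, h4, sub_self]
  exact sub_eq_zero.1 h3

/-- the inner products of `e` with the conjugates of `f` are not constant -/
theorem false_of_const [Finite K] [FiniteDimensional K V] (hQ : Nondeg Q) (hd : 5 ≤ finrank K V) {e f : V}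
    (he : e ≠ 0) (hf : f ≠ 0) (h : ∀ g ∈ E Q, polar Q e (g f) = polar Q e f) : False := by
  have hG := good_of_finite hQ hd
  have key : ∀ u y : V, Q u = 0 → polar Q u y = 0 →
      polar Q u f * polar Q e y - polar Q y f * polar Q e u - Q y * polar Q u f * polar Q e u = 0 := by
    intro u y hu huy
    have h1 := h _ (siegel_mem_E hu huy)
    rw [siegel_apply, polar_sub_right, polar_sub_right, polar_add_right, polar_smul_right, polar_smul_right,
      polar_smul_right, smul_eq_mul, smul_eq_mul, smul_eq_mul] at h1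
    linear_combination h1
  have step1 : ∀ u : V, Q u = 0 → polar Q u f ≠ 0 → polar Q e u = 0 := by
    intro u hu huf
    by_contra heu
    have hu0 : u ≠ 0 := by
      rintro rfl
      exact huf (polar_zero_left Q _)
    obtain ⟨u', hu'⟩ := LieClassical.OrthTrans.exists_hyp hQ hu hu0
    obtain ⟨z, w, hzw, h1, h2, h3, h4⟩ := hG.exists_hyp2 hu'
    have e1 := key u z hu h1
    have e2 := key u w hu h2
    have e3 := key u (z + w) hu (by rw [polar_add_right, h1, h2, add_zero])
    rw [polar_add_right, polar_add_left, Q_add, hzw.pair] at e3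
    have e4 : polar Q u f * polar Q e u = 0 := by linear_combination e1 + e2 - e3
    exact (mul_ne_zero huf heu) e4
  have step2 : ∀ u : V, Q u = 0 → polar Q u f ≠ 0 → ∃ c : K, e = c • u := by
    intro u hu huf
    by_contra hcon
    push Not at hcon
    obtain ⟨y, hy1, hy2⟩ := LieClassical.OrthTrans.exists_sep hQ hcon
    have h1 := key u y hu hy1
    rw [step1 u hu huf, hy2, mul_zero, mul_zero, mul_one, sub_zero, sub_zero] at h1
    exact huf h1
  obtain ⟨u, hu, huf⟩ : ∃ u, Q u = 0 ∧ polar Q u f ≠ 0 := by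
    by_contra hcon
    push Not at hcon
    apply hf
    apply hQ
    intro y
    have h1 : y ∈ Submodule.span K {v | Q v = 0} := top_le_span_sing hQ hd trivial
    have h2 : Submodule.span K {v | Q v = 0} ≤ LinearMap.ker (polarBilin Q f) := by
      rw [Submodule.span_le]
      intro v hv
      have h3 := hcon v hv
      rw [polar_comm] at h3
      exact h3
    exact h2 h1
  obtain ⟨c, hc⟩ := step2 u hu huf
  have hc0 : c ≠ 0 := by
    rintro rfl
    exact he (by rw [hc, zero_smul])
  have hQe : Q e = 0 := by rw [hc, QuadraticMap.map_smul, hu, smul_zero]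
  have hef : polar Q e f ≠ 0 := by
    rw [hc, polar_smul_left, smul_eq_mul]
    exact mul_ne_zero hc0 huf
  obtain ⟨z, hz, hQz, hez⟩ := exists_sing_notMem (Q := Q) ![e] (Submodule.span K {e})
    (by rw [finrank_span_singleton he]; omega)
  have hez : polar Q e z = 0 := hez 0
  have hzf : polar Q z f = 0 := by
    by_contra hzf
    obtain ⟨c', hc'⟩ := step2 z hQz hzf
    apply hz
    have hc0' : c' ≠ 0 := by
      rintro rfl
      exact he (by rw [hc', zero_smul])
    exact Submodule.mem_span_singleton.2 ⟨c'⁻¹, by rw [hc', inv_smul_smul₀ hc0']⟩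
  obtain ⟨c', hc'⟩ := step2 (e + z) (by rw [Q_add, hQe, hQz, hez]; ring) (by
    rw [polar_add_left, hzf, add_zero]; exact hef)
  have hc0' : c' ≠ 0 := by
    rintro rfl
    exact he (by rw [hc', zero_smul])
  apply hz
  refine Submodule.mem_span_singleton.2 ⟨c'⁻¹ - 1, ?_⟩
  rw [sub_smul, one_smul]
  have h5 : c'⁻¹ • e = e + z := by
    nth_rewrite 1 [hc']
    rw [inv_smul_smul₀ hc0']
  rw [h5]
  abel

/-- **E2.** -/
theorem e2 [Finite K] [CharP K 2] [FiniteDimensional K V] (hQ : Nondeg Q) (hn : 8 ≤ finrank K V)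
    {a b : V ≃ₗ[K] V} (hab : PBad (E Q) a b) {c d : K} (hac : ∀ v, a v + a⁻¹ v = c • v)
    (hbd : ∀ v, b v + b⁻¹ v = d • v) {e f : V} (he : e ≠ 0) (hf : f ≠ 0)
    (haQ : ∀ v, polar Q (a v) v = c * Q v + (polar Q v e) ^ 2)
    (hbQ : ∀ v, polar Q (b v) v = d * Q v + (polar Q v f) ^ 2) : False := by
  have hne : Nontrivial V := Module.nontrivial_of_finrank_pos (R := K) (by omega)
  have h2 : (2 : K) = 0 := CharTwo.two_eq_zero
  refine false_of_const hQ (by omega) he hf fun g hg => ?_
  obtain ⟨x, hx, y, hy, rfl, hxa, hyb⟩ := hab.2.2 g hg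
  have hxe := fix_of_comm hQ h2 (E_le_O hx) haQ (scomm_two hQ h2 (E_le_O hx) (E_le_O hab.1) hxa)
  have hyf := fix_of_comm hQ h2 (E_le_O hy) hbQ (scomm_two hQ h2 (E_le_O hy) (E_le_O hab.2.1) hyb)
  change polar Q e (x (y f)) = _
  rw [hyf]
  nth_rewrite 1 [← hxe]
  rw [polar_map (E_le_O hx)]

end Cfsg.Agent.H316.Sz
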