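import Cfsg.Agent.H316.Sz.E2
import Cfsg.Agent.H141.SpinTwo

/-!
# Products of two centralizers in orthogonal groups of even characteristic: the case E3 of S2273 (helper316)
-/

set_option autoImplicit false
set_option linter.unusedVariables false

namespace Cfsg.Agent.H316.Sz

open Module QuadraticMap Cfsg.Agent.LieClassical.OrthCore Cfsg.Agent.LieClassical.OrthTrans
open Cfsg.Agent.LieClassical.OrthFinite Cfsg.Agent.H105.Sz Cfsg.Agent.H105.SzO Cfsg.Agent.H955
open Cfsg.Agent.H141.SpinFacts (rk rk_add fixd mem_fixd even_rk even_rk_of_mem rk_refl even_rk_of_sing)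

variable {K V : Type*} [Field K] [AddCommGroup V] [Module K V] {Q : QuadraticForm K V}

section Inv

variable [FiniteDimensional K V] (hQ : Nondeg Q) (h2 : (2 : K) = 0)

include h2 in
omit [FiniteDimensional K V] in
theorem neg_eq (v : V) : -v = v := by
  rw [← neg_one_smul K]
  have : (-1 : K) = 1 := by linear_combination -h2
  rw [this, one_smul]

include hQ h2 in
/-- an element of `E` with form `(bv,v) = (v,e)²` fixing `e ≠ 0` has `Q e = 0` -/
theorem sing_of_mem [Finite K] (hn : 5 ≤ finrank K V) {b : V ≃ₗ[K] V} (hb : b ∈ E Q) {e : V} (he : e ≠ 0)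
    (hbe : b e = e) (hbb : ∀ v, b (b v) = v) (hbQ : ∀ v, polar Q (b v) v = (polar Q v e) ^ 2)
    {x : V} (hx : b x - x = e) : Q e = 0 := by
  by_contra hQe
  have hbO := E_le_O hb
  have hneg := neg_eq (V := V) h2
  -- `Q e = (x, e)²` and `(x, e) = Q e`
  have h3 : polar Q x e = (polar Q x e) ^ 2 := by
    nth_rewrite 1 [← hx]
    rw [polar_sub_right, polar_comm Q x (b x), hbQ, polar_self', h2, zero_mul, sub_zero]
  have h4 : Q e = (polar Q x e) ^ 2 := by
    have h5 := mem_O.1 hbO x
    have h6 : b x = x + e := by rw [← hx]; abel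
    rw [h6, Q_add] at h5
    linear_combination h5 - (polar Q x e) * h2 + h3
  have h5 : polar Q x e = 1 := by
    have h6 : polar Q x e ≠ 0 := by
      intro h6
      rw [h6] at h4
      exact hQe (by rw [h4]; ring)
    have h7 : polar Q x e * (polar Q x e - 1) = 0 := by linear_combination -h3
    exact sub_eq_zero.1 ((mul_eq_zero.1 h7).resolve_left h6)
  have h6 : Q e = 1 := by rw [h4, h5, one_pow]
  -- parity
  have hG := good_of_finite hQ hn
  have hev : Even (rk b) := even_rk_of_mem h2 hQ (by rw [hG.commutator_eq_E]; exact hb)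
  have hr : rk (refl Q e hQe) = 1 := rk_refl hQ hQe
  have hbr : Even (rk (b * refl Q e hQe)) := by
    refine even_rk_of_sing hQ ((O Q).mul_mem hbO (refl_mem_O hQe)) fun v => ?_
    have e1 : (b * refl Q e hQe) v = b v + polar Q e v • e := by
      change b (refl Q e hQe v) = _
      rw [refl_apply, h6, inv_one, one_mul, map_sub, map_smul, hbe, sub_eq_add_neg, hneg]
    have e2 : Q (b v + polar Q e v • e) = Q v := by
      rw [← e1]
      exact mem_O.1 ((O Q).mul_mem hbO (refl_mem_O hQe)) v
    rw [e1, sub_eq_add_neg, hneg, Q_add, e2, polar_add_left, hbQ, polar_smul_left, smul_eq_mul, polar_comm Q v e]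
    linear_combination (Q v + polar Q e v ^ 2) * h2
  have := even_rk h2 hQ hbO (refl_mem_O hQe)
  rw [hr] at this
  rw [Nat.even_iff] at this hev hbr
  omega

end Inv

/-- **E3.** -/
theorem e3 [Finite K] [CharP K 2] [FiniteDimensional K V] (hQ : Nondeg Q) (hn : 8 ≤ finrank K V)
    {a b : V ≃ₗ[K] V} (hab : PBad (E Q) a b) {c d : K} (ha : a ≠ 1) (hac : ∀ v, a v + a⁻¹ v = c • v)
    (hbd : ∀ v, b v + b⁻¹ v = d • v) {e : V} (he : e ≠ 0)
    (haQ : ∀ v, polar Q (a v) v = c * Q v)
    (hbQ : ∀ v, polar Q (b v) v = d * Q v + (polar Q v e) ^ 2) : False := by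
  have hne : Nontrivial V := Module.nontrivial_of_finrank_pos (R := K) (by omega)
  have h2 : (2 : K) = 0 := CharTwo.two_eq_zero
  have hneg := neg_eq (V := V) h2
  have hbO : b ∈ O Q := E_le_O hab.2.1
  have haO : a ∈ O Q := E_le_O hab.1
  have hG := good_of_finite hQ (by omega : 5 ≤ finrank K V)
  have hbi : ∀ v, b (b⁻¹ v) = v := fun v => b.apply_symm_apply v
  have hib : ∀ v, b⁻¹ (b v) = v := fun v => b.symm_apply_apply v
  -- `b e = e`
  have hbe : b e = e := fix_of_comm hQ h2 hbO hbQ fun v => rfl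
  have hbe' : b⁻¹ e = e := by
    nth_rewrite 1 [← hbe]
    rw [hib]
  -- `d = 0`
  have hd0 : d = 0 := by
    have h3 := hbd e
    rw [hbe, hbe'] at h3
    have h4 : d • e = 0 := by
      rw [← h3]
      nth_rewrite 1 [← hneg e]
      rw [neg_add_cancel]
    exact (smul_eq_zero.1 h4).resolve_right he
  subst hd0
  have hbQ' : ∀ v, polar Q (b v) v = (polar Q v e) ^ 2 := fun v => by rw [hbQ, zero_mul, zero_add]
  have hbb : ∀ v, b (b v) = v := by
    intro v
    have h3 := hbd v
    rw [zero_smul] at h3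
    have h4 : b v = b⁻¹ v := by
      rw [← hneg (b⁻¹ v)]
      exact eq_neg_of_add_eq_zero_left h3
    rw [h4, hbi]
  -- the fixed space of `b`
  have hker : ∀ v ∈ fixd b, polar Q v e = 0 := by
    intro v hv
    rw [mem_fixd] at hv
    have h3 := hbQ' v
    rw [hv, polar_self', h2, zero_mul] at h3
    exact pow_eq_zero_iff (two_ne_zero) |>.1 h3.symm
  have hsa : ∀ v w, polar Q (b v) w = polar Q v (b w) := by
    intro v w
    have h3 := polar_map hbO (b v) w
    rw [hbb] at h3
    exact h3.symm
  -- `im (b - 1) = (fixd b)^⊥`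
  let s : V →ₗ[K] V := (b : V →ₗ[K] V) - 1
  have hs : ∀ v, s v = b v - v := fun v => rfl
  have hrange : LinearMap.range s = perp Q (fixd b) := by
    apply Submodule.eq_of_le_of_finrank_eq
    · rintro _ ⟨v, rfl⟩
      rw [mem_perp]
      intro w hw
      rw [hs, polar_sub_right, ← hsa, (mem_fixd b w).1 hw, sub_self]
    · have h3 := finrank_add_perp hQ (fixd b)
      have h4 := rk_add b
      have h5 : finrank K (LinearMap.range s) = rk b := rfl
      omega
  obtain ⟨x, hx⟩ : e ∈ LinearMap.range s := by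
    rw [hrange, mem_perp]
    exact hker
  rw [hs] at hx
  have hQe : Q e = 0 := sing_of_mem hQ h2 (by omega) hab.2.1 he hbe hbb hbQ' hx
  -- the rank of `b - 1`
  have hrk2 : 2 ≤ rk b := by
    have hev : Even (rk b) := even_rk_of_mem h2 hQ (by rw [hG.commutator_eq_E]; exact hab.2.1)
    have h3 : rk b ≠ 0 := by
      intro h3
      have h4 : LinearMap.range s = ⊥ := Submodule.finrank_eq_zero.1 h3
      have h5 : e ∈ LinearMap.range s := ⟨x, by rw [hs]; exact hx⟩
      rw [h4, Submodule.mem_bot] at h5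
      exact he h5
    obtain ⟨k, hk⟩ := hev
    omega
  have hfix : finrank K V ≤ 2 * finrank K (fixd b) := by
    have h3 : LinearMap.range s ≤ fixd b := by
      rintro _ ⟨v, rfl⟩
      rw [mem_fixd, hs, map_sub, hbb, ← hneg (b v - v), neg_sub]
    have h4 := Submodule.finrank_mono h3
    have h5 := rk_add b
    have h6 : finrank K (LinearMap.range s) = rk b := rfl
    omega
  -- a conjugate of `a` moving `⟨e⟩`
  have hna : ¬ Scalar a := by
    rintro ⟨c0, hc0⟩
    apply ha
    obtain ⟨v0, hv0⟩ := exists_nonsing' hQ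
    have h3 := mem_O.1 haO v0
    rw [hc0, QuadraticMap.map_smul, smul_eq_mul] at h3
    have h4 : (c0 * c0 - 1) * Q v0 = 0 := by linear_combination h3
    have h5 : c0 ^ 2 = 1 ^ 2 := by
      have := (mul_eq_zero.1 h4).resolve_right hv0
      linear_combination this
    have h6 := eq_of_sq h2 h5
    ext v
    rw [hc0, h6, one_smul]
    rfl
  obtain ⟨u, hu, hu0, hmv⟩ := exists_moved hQ (by omega) hna
  obtain ⟨k, hk, hku⟩ := hG.trans_sing hu hQe hu0 he
  set a' := k * a * k⁻¹ with ha'
  have hki : ∀ v, k (k⁻¹ v) = v := fun v => k.apply_symm_apply v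
  have hik : ∀ v, k⁻¹ (k v) = v := fun v => k.symm_apply_apply v
  have ha'v : ∀ v, a' v = k (a (k⁻¹ v)) := fun v => rfl
  have hab' : PBad (E Q) a' b := hab.conj_left hk
  have ha'O : a' ∈ O Q := E_le_O hab'.1
  have ha'Q : ∀ v, polar Q (a' v) v = c * Q v := by
    intro v
    rw [ha'v]
    nth_rewrite 2 [← hki v]
    rw [polar_map (E_le_O hk), haQ, mem_O.1 ((O Q).inv_mem (E_le_O hk))]
  set f := a' e with hf
  have hQf : Q f = 0 := by rw [hf, mem_O.1 ha'O, hQe]
  have hef : polar Q e f = 0 := by rw [polar_comm, hf, ha'Q, hQe, mul_zero]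
  have hfe : ∀ c0 : K, f ≠ c0 • e := by
    intro c0 h3
    apply hmv c0
    apply k.injective
    rw [map_smul, hku, ← h3, hf, ha'v, ← hku, hik]
  have hef2 := indep_of_not he hfe
  -- all singular vectors orthogonal to `e` are alike
  have alike : ∀ f' : V, Q f' = 0 → polar Q e f' = 0 → (∀ c0 : K, f' ≠ c0 • e) → (b f' = f' ↔ b f = f) := by
    intro f' hQf' hef' hfe'
    obtain ⟨g, hg, hge, hgf⟩ := trans_pair hQ (by omega) hQe hQf hef hef2 hQe hQf' hef' (indep_of_not he hfe')
    obtain ⟨x, hx, h3, h4⟩ := key_two hQ h2 hab'.symm hg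
    have hxe : x e = e := fix_of_comm hQ h2 (E_le_O hx) hbQ h3
    have hge' : g⁻¹ e = e := by
      nth_rewrite 1 [← hge]
      exact g.symm_apply_apply e
    have h5 : f' = x f := by
      have h6 := h4 e
      rw [hxe, hge', ← hf, hgf] at h6
      exact h6
    rw [h5, h3]
    exact x.injective.eq_iff
  by_cases hbf : b f = f
  · -- all singular vectors of `e^⊥` are fixed
    have h3 : perp Q (Submodule.span K {e}) ≤ fixd b := by
      refine (perp_le_span hQ (by omega) hQe he).trans ?_
      rw [Submodule.span_le]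
      rintro v ⟨hv, hQv⟩
      show v ∈ fixd b
      rw [mem_fixd]
      by_cases hve : ∃ c0 : K, v = c0 • e
      · obtain ⟨c0, rfl⟩ := hve
        rw [map_smul, hbe]
      · push Not at hve
        exact (alike v hQv (hv e (Submodule.mem_span_singleton_self e)) hve).2 hbf
    have h4 := Submodule.finrank_mono h3
    have h5 := finrank_add_perp hQ (Submodule.span K {e})
    rw [finrank_span_singleton he] at h5
    have h6 := rk_add b
    omega
  · -- a fixed singular vector
    obtain ⟨C, hC, hCU, hCU', hfr⟩ := exists_rel_compl (U := fixd b ⊓ Submodule.span K {e}) (W := fixd b) inf_le_left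
    have h3 : finrank K (fixd b ⊓ Submodule.span K {e} : Submodule K V) ≤ 1 := by
      rw [← finrank_span_singleton (K := K) he]
      exact Submodule.finrank_mono inf_le_right
    obtain ⟨w, hw, hw0, hQw⟩ := exists_sing_mem (Q := Q) C (by omega)
    have hwf := hC hw
    refine hbf ((alike w hQw (by rw [polar_comm]; exact hker w hwf) ?_).1 ((mem_fixd b w).1 hwf))
    rintro c0 rfl
    apply hw0
    have h5 : c0 • e ∈ C ⊓ (fixd b ⊓ Submodule.span K {e}) :=
      ⟨hw, hwf, Submodule.smul_mem _ _ (Submodule.mem_span_singleton_self e)⟩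
    rwa [hCU, Submodule.mem_bot] at h5

end Cfsg.Agent.H316.Sz
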